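/-! Words for the Rudvalis group on six involutions. -/

set_option autoImplicit false

namespace Cfsg.Lib.RuMult

/-- The six involutions as words in the three generators. -/
def genW : List (List Nat) :=
  [[1, 2, 0, 1, 2, 1, 2, 0, 1, 2, 1, 2, 1, 2, 0, 2, 1, 2, 0, 1, 2, 1, 2, 0, 1, 2, 1, 2, 0, 1, 2, 1, 2, 0, 1, 2, 1, 0, 2, 1, 2, 1, 0, 2, 1, 2, 1, 0, 2, 1, 2, 1, 0, 2, 1, 2, 0, 2, 1, 2, 1, 2, 1, 0, 2, 1, 2, 1, 0, 2, 1],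
    [0, 2, 1, 2, 0, 2, 1, 2, 0, 1, 2, 1, 2, 0, 1, 2, 0, 1, 2, 0, 2, 1, 2, 0, 1, 2, 1, 2, 0, 1, 2, 1, 2, 0, 1, 2, 1, 0, 2, 1, 2, 1, 0, 2, 1, 2, 1, 0, 2, 1, 2, 0, 2, 1, 0, 2, 1, 0, 2, 1, 2, 1, 0, 2, 1, 2, 0, 2, 1, 2, 1, 2, 1, 0],
    [0, 2, 1, 2, 1, 2, 0, 2, 1, 2, 1, 2, 0, 2, 1, 2, 0, 1, 2, 1, 2, 0, 1, 2, 0, 2, 1, 2, 0, 1, 2, 1, 2, 0, 2, 1, 2, 0, 2, 1, 2, 1, 0, 2, 1, 2, 0, 2, 1, 0, 2, 1, 2, 1, 0, 2, 1, 2, 0, 2, 1, 2, 1, 2, 0, 2, 1, 2, 1, 2, 0],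
    [2, 0, 2, 1, 2, 0, 1, 2, 1, 2, 1, 2, 0, 2, 1, 2, 1, 2, 0, 2, 1, 2, 0, 1, 2, 0, 1, 2, 0, 1, 2, 0, 1, 2, 0, 1, 2, 1, 0, 2, 1, 0, 2, 1, 0, 2, 1, 2, 0, 2, 1, 2, 1, 2, 0, 2, 1, 2, 1, 2, 1, 0, 2, 1, 2, 0, 2],
    [2, 1, 2, 1, 2, 0, 2, 1, 2, 0, 1, 2, 0, 1, 2, 0, 2, 1, 2, 0, 1, 2, 0, 1, 2, 0, 2, 1, 2, 0, 1, 2, 0, 2, 1, 2, 1, 2, 0, 2, 1, 0, 2, 1, 0, 2, 1, 2, 0, 2, 1, 0, 2, 1, 0, 2, 1, 2, 0, 2, 1, 2, 1, 2],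
    [0, 2, 1, 2, 0, 2, 1, 2, 0, 1, 2, 1, 2, 0, 1, 2, 0, 1, 2, 0, 2, 1, 2, 0, 1, 2, 1, 2, 0, 1, 2, 1, 2, 0, 2, 1, 2, 0]]

/-- The three generators as words in the six involutions. -/
def backW : List (List Nat) :=
  [[1, 5, 0, 1, 0, 2, 3, 4, 2, 0, 1, 0, 3, 5, 0, 1, 0, 1, 0, 2, 1, 0, 1, 4, 0, 1],
    [1, 4, 1, 0, 1, 0, 2, 0, 1, 0, 1, 2, 3, 4, 1, 0, 1, 0],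
    [2, 3, 5, 0, 1, 0, 1, 4, 2, 0, 1, 0, 3, 5, 2, 0, 1, 0, 5, 4, 3, 1, 0, 1, 0, 5, 3, 2]]

/-- A product of relators with an even number of each letter. -/
def obstruction : List Nat :=
  [0, 3, 1, 0, 4, 1, 2, 0, 1, 0, 2, 1, 4, 0, 1, 3, 0, 1, 0, 2, 0, 1, 0, 1, 2, 0, 3, 1, 3, 4, 1, 0, 5, 0, 1, 4, 3, 1, 3, 0, 1, 0, 5, 0, 1, 0, 1, 3, 4, 1, 0, 1, 5, 0, 1, 0, 1, 0, 1, 3, 2, 1, 0, 1, 0, 2, 1, 5, 0, 1, 3, 2, 0, 1, 3, 4, 1, 5, 4, 2, 1, 4, 1, 0, 2, 1, 0, 5, 2, 1]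

end Cfsg.Lib.RuMult
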