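import Cfsg.Agent.Lib.RuMult.Pres
import Cfsg.Agent.Lib.RuMin.Aut
import Cfsg.Prelude.Def_KGroupFacts

/-!
# The double cover inside the automorphism group of the lattice
-/

set_option autoImplicit false
set_option maxRecDepth 100000

namespace Cfsg.Lib.RuMult

open Cfsg.Spor Cfsg.Lib.RuMin Cfsg.Lib.Ru4060 Cfsg.Lib.CosetEnum
open scoped commutatorElement

/-- The lattice automorphism of a generator. -/
noncomputable def gA (g : ℕ) : fourRu := if h : g < 3 then ⟨gAut h, gAut_mem h⟩ else 1

/-- The exponent of the unit of a generator at a point. -/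
noncomputable def ue (g z : ℕ) : ℕ := cond (Nat.blt (unitAt g z) 4) (unitAt g z) 0

/-- The point and the unit exponent reached by a word. -/
noncomputable def uwalk : List ℕ → ℕ → ℕ × ℕ :=
  fun w => List.rec (motive := fun _ => ℕ → ℕ × ℕ) (fun z => (z, 0))
    (fun g _ ih z => force (ue g z) fun u => force (img tab 3 g z) fun t =>
      ((ih t).1, Nat.mod (Nat.add (ih t).2 u) 4)) w

theorem toG_ue (g z : ℕ) : toG (unitVal (unitAt g z)) = gI ^ ue g z := by
  unfold ue
  generalize unitAt g z = u
  match u with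
  | 0 => decide
  | 1 => decide
  | 2 => decide
  | 3 => decide
  | u + 4 =>
    rw [show Nat.blt (u + 4) 4 = false from by simpa [← Bool.not_eq_true, Nat.blt_eq] using Nat.le_add_left 4 u,
      cond_false]
    rfl

theorem gA_rv {g : ℕ} (hg : g < 3) (z : Fin 4060) :
    ((gA g).1 (rvL z)).1 = gI ^ ue g z.1 • rv (img tab 3 g z.1) := by
  rw [gA, dif_pos hg]
  refine gfun_unique hg ?_
  obtain ⟨hc, hi, -⟩ := gen_facts hg
  show gmap g (rv z.1) = _
  rw [← toG_ue, gmap, rv, toV_ofV, mat_vec hc hi z.2 (scale_pos hg).1, smul_smul]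
  rfl

theorem uwalk_sound : ∀ {w : List ℕ}, (∀ g ∈ w, g < 3) → ∀ z : Fin 4060,
    (uwalk w z.1).1 < 4060 ∧
      ((wordVal gA w).1 (rvL z)).1 = gI ^ (uwalk w z.1).2 • rv (uwalk w z.1).1
  | [], _, z => ⟨z.2, by
      show (rvL z).1 = gI ^ 0 • rv z.1
      rw [pow_zero, one_smul]; rfl⟩
  | g :: w, h, z => by
    have hg : g < 3 := h g (by simp)
    have hstep : uwalk (g :: w) z.1 = ((uwalk w (img tab 3 g z.1)).1,
        ((uwalk w (img tab 3 g z.1)).2 + ue g z.1) % 4) := by
      simp only [uwalk, force_eq]
      rfl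
    have ht : img tab 3 g z.1 < 4060 := by rw [← prm_apply hg]; exact (prm g z).2
    obtain ⟨h1, h2⟩ := uwalk_sound (w := w) (fun a ha => h a (by simp [ha])) (⟨img tab 3 g z.1, ht⟩ : Fin 4060)
    refine ⟨by rw [hstep]; exact h1, ?_⟩
    rw [hstep, wordVal, gen, if_neg (by unfold eps; omega)]
    show ((wordVal gA w).1 ((gA g).1 (rvL z))).1 = _
    have e : (gA g).1 (rvL z) = ⟨gI ^ ue g z.1 • (rvL ⟨img tab 3 g z.1, ht⟩).1,
        pow_smul_mem (rvL _).2 _⟩ := Subtype.ext (gA_rv hg z)
    rw [e, aut_pow, h2, smul_smul, ← pow_add, ← gI_pow_mod, Nat.add_comm]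

theorem line_gA {g : ℕ} (hg : g < 3) : lineHom (gA g) = prm g := by
  refine Equiv.ext fun z => ?_
  obtain ⟨a, ha⟩ := lineMap_spec (gA g) z
  have e := gA_rv hg z
  rw [← prm_apply hg] at e
  exact (line_unique (e.symm.trans ha)).symm

/-- The lifts of the six involutions. -/
noncomputable def Y (g : ℕ) : fourRu := wordVal gA (genW.getD g [])

theorem genW_lt : ∀ g, ∀ a ∈ genW.getD g [], a < 3 := by
  intro g
  rcases Nat.lt_or_ge g genW.length with hg | hg
  · exact (show ∀ g < genW.length, ∀ a ∈ genW.getD g [], a < 3 by decide +kernel) g hg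
  · rw [List.getD_eq_default _ _ hg]; simp

theorem line_wordVal : ∀ {w : List ℕ}, (∀ g ∈ w, g < 3) → lineHom (wordVal gA w) = wordVal prm w
  | [], _ => map_one _
  | g :: w, h => by
    have hg : g < 3 := h g (by simp)
    rw [wordVal, wordVal, map_mul, line_wordVal fun a ha => h a (by simp [ha]), gen, gen,
      if_neg (by unfold eps; omega), if_neg (by unfold eps; omega), line_gA hg]

theorem line_Y (g : ℕ) : lineHom (Y g) = (x g : Equiv.Perm (Fin 4060)) := by
  rw [Y, line_wordVal (genW_lt g), x, OutRu.val_coe (genW_lt g)]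

theorem line_word_Y : ∀ (r : List ℕ), (∀ g ∈ r, g ≠ eps) →
    lineHom (wordVal Y r) = ((wordVal x r : grp) : Equiv.Perm (Fin 4060))
  | [], _ => map_one _
  | g :: r, h => by
    rw [wordVal, wordVal, map_mul, Subgroup.coe_mul, line_word_Y r fun a ha => h a (by simp [ha]), gen, gen,
      if_neg (h g (by simp)), if_neg (h g (by simp)), line_Y]

theorem Y_flat : ∀ (r : List ℕ), (∀ g ∈ r, g ≠ eps) →
    wordVal Y r = wordVal gA (r.flatMap fun g => genW.getD g [])
  | [], _ => rfl
  | g :: r, h => by
    rw [wordVal, Y_flat r fun a ha => h a (by simp [ha]), gen, if_neg (h g (by simp)), List.flatMap_cons,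
      wordVal_append]
    rfl

theorem squares_unit : ((List.range 7).all fun g =>
    Nat.beq (uwalk (genW.getD g [] ++ genW.getD g []) 0).1 0 &&
      Nat.beq (uwalk (genW.getD g [] ++ genW.getD g []) 0).2 0) = true := by decide +kernel

theorem eq_one_of_unit {f : fourRu} (hf : lineHom f = 1) (h : (f.1 (rvL ⟨0, by norm_num⟩)).1 = rv 0) : f = 1 := by
  obtain ⟨e, rfl⟩ := eq_scalar_of_ker hf
  have h1 : gI ^ e • rv 0 = rv 0 := h
  have hn : (ruNorm (rv 0) : GaussianInt) ≠ 0 := by
    rw [(rv_facts ⟨0, by norm_num⟩).2]; decide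
  have h2 := congrArg (fun v => herm v (rv 0)) h1
  simp only [herm_smul_left, herm_self] at h2
  have h3 : gI ^ e = 1 := mul_right_cancel₀ hn (h2.trans (one_mul _).symm)
  refine Subtype.ext (Equiv.ext fun v => Subtype.ext ?_)
  show gI ^ e • v.1 = v.1
  rw [h3, one_smul]

theorem Y_mul_self (g : ℕ) : Y g * Y g = 1 := by
  rcases Nat.lt_or_ge g 7 with hg | hg
  · have hlt : ∀ a ∈ genW.getD g [] ++ genW.getD g [], a < 3 := fun a ha =>
      (List.mem_append.1 ha).elim (genW_lt g a) (genW_lt g a)
    have hf : lineHom (Y g * Y g) = 1 := by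
      rw [map_mul, line_Y, ← Subgroup.coe_mul, x_mul_self]; rfl
    refine eq_one_of_unit hf ?_
    rw [Y, ← wordVal_append, (uwalk_sound hlt ⟨0, by norm_num⟩).2]
    have h := List.all_eq_true.1 squares_unit g (List.mem_range.2 hg)
    rw [Bool.and_eq_true, Nat.beq_eq, Nat.beq_eq] at h
    rw [h.1, h.2, pow_zero, one_smul]
  · rw [Y, List.getD_eq_default _ _ ((show genW.length ≤ 7 by decide).trans hg)]
    exact one_mul 1

theorem obstruction_facts : (∀ g ∈ obstruction, g < 6) ∧
    OutRu.sameW (obstruction.flatMap fun g => genW.getD g []) [] = true ∧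
    uwalk (obstruction.flatMap fun g => genW.getD g []) 0 = (0, 2) ∧
    ∀ g < 6, obstruction.count g % 2 = 0 := by
  refine ⟨by decide +kernel, by decide +kernel, by decide +kernel, by decide +kernel⟩

/-- The obstruction as an element. -/
noncomputable def minusOne : fourRu := wordVal Y obstruction

theorem minusOne_line : lineHom minusOne = 1 := by
  obtain ⟨hlt, hsame, -, -⟩ := obstruction_facts
  have hne : ∀ g ∈ obstruction, g ≠ eps := fun g hg => by have := hlt g hg; unfold eps; omega
  rw [minusOne, line_word_Y _ hne, wordVal_val hne, OutRu.val_of_sameW hsame]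
  rfl

theorem minusOne_ne : minusOne ≠ 1 := by
  intro h
  obtain ⟨hlt, -, hu, -⟩ := obstruction_facts
  have hne : ∀ g ∈ obstruction, g ≠ eps := fun g hg => by have := hlt g hg; unfold eps; omega
  have h1 := (uwalk_sound (w := obstruction.flatMap fun g => genW.getD g []) (fun a ha => by
    obtain ⟨g, -, hga⟩ := List.mem_flatMap.1 ha
    exact genW_lt g a hga) ⟨0, by norm_num⟩).2
  rw [← Y_flat _ hne, show wordVal Y obstruction = minusOne from rfl, h, hu] at h1
  have h2 := congrArg (fun v => herm v (rv 0)) (h1 : rv 0 = gI ^ 2 • rv 0)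
  simp only [herm_smul_left, herm_self, (rv_facts (⟨0, by norm_num⟩ : Fin 4060)).2] at h2
  exact absurd h2 (by decide)

theorem minusOne_mem_commutator : minusOne ∈ commutator fourRu := by
  rw [← Abelianization.ker_of, MonoidHom.mem_ker]
  obtain ⟨hlt, -, -, heven⟩ := obstruction_facts
  let a : ℕ → Abelianization fourRu := fun g => Abelianization.of (Y g)
  have hprod : ∀ w : List ℕ, (∀ g ∈ w, g ≠ eps) → wordVal a w = (w.map a).prod := by
    intro w
    induction w with
    | nil => intro _; rfl
    | cons g w ih =>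
      intro h
      rw [wordVal, ih fun b hb => h b (by simp [hb]), gen, if_neg (h g (by simp)), List.map_cons,
        List.prod_cons, mul_comm]
  rw [minusOne, map_wordVal, show (fun g => Abelianization.of (Y g)) = a from rfl,
    hprod _ fun g hg => by have := hlt g hg; unfold eps; omega, ← Multiset.prod_coe, ← Multiset.map_coe,
    Finset.prod_multiset_map_count]
  refine Finset.prod_eq_one fun g hg => ?_
  rw [Multiset.mem_toFinset, Multiset.mem_coe] at hg
  rw [Multiset.coe_count]
  obtain ⟨k, hk⟩ := Nat.dvd_of_mod_eq_zero (heven g (hlt g hg))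
  rw [hk, pow_mul, pow_two, ← map_mul, Y_mul_self, map_one, one_pow]

theorem commutator_ru : commutator Ru = ⊤ := by
  have hperf : commutator grp = ⊤ := by
    have := grp_simple
    refine (IsSimpleGroup.eq_bot_or_eq_top_of_normal (commutator grp) inferInstance).resolve_left fun h => ?_
    have hc : ∀ a b : grp, a * b = b * a := fun a b =>
      commutatorElement_eq_one_iff_mul_comm.1 (by
        rw [← Subgroup.mem_bot, ← h]
        exact Subgroup.commutator_mem_commutator (Subgroup.mem_top a) (Subgroup.mem_top b))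
    let _ : CommGroup grp := { (inferInstance : Group grp) with mul_comm := hc }
    have hp := IsSimpleGroup.prime_card (α := grp)
    rw [card_grp] at hp
    exact absurd hp (by norm_num)
  rw [commutator_def, ← Subgroup.map_top_of_surjective ruEquiv.symm.toMonoidHom ruEquiv.symm.surjective,
    ← Subgroup.map_commutator, ← commutator_def, hperf,
    Subgroup.map_top_of_surjective _ ruEquiv.symm.surjective]

/-- The projection of the derived subgroup. -/
noncomputable def proj : commutator fourRu →* Ru :=
  (QuotientGroup.mk' (Subgroup.center fourRu)).comp (commutator fourRu).subtype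

theorem proj_stem : Cfsg.IsStemExtension proj := by
  have hs : Function.Surjective proj := by
    rw [← MonoidHom.range_eq_top, proj, MonoidHom.range_comp, Subgroup.range_subtype,
      commutator_def, Subgroup.map_commutator,
      Subgroup.map_top_of_surjective _ (QuotientGroup.mk'_surjective _), ← commutator_def, commutator_ru]
  refine ⟨hs, fun a ha => ?_, fun a _ => ?_⟩
  · have h : (a : fourRu) ∈ Subgroup.center fourRu := (QuotientGroup.eq_one_iff _).1 ha
    exact Subgroup.mem_center_iff.2 fun b => Subtype.ext (Subgroup.mem_center_iff.1 h b)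
  · have key : ∀ f : fourRu, ∃ d ∈ commutator fourRu, ∃ z ∈ Subgroup.center fourRu, f = d * z := by
      intro f
      obtain ⟨d, hd⟩ := hs (QuotientGroup.mk' _ f)
      refine ⟨d, d.2, (d : fourRu)⁻¹ * f, (QuotientGroup.eq_one_iff _).1 ?_, by group⟩
      rw [QuotientGroup.mk_mul, QuotientGroup.mk_inv]
      exact inv_mul_eq_one.2 hd
    have hle : commutator fourRu ≤ (commutator (commutator fourRu)).map (commutator fourRu).subtype := by
      rw [commutator_def (G := ↥(commutator fourRu)), Subgroup.map_commutator, ← MonoidHom.range_eq_map,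
        Subgroup.range_subtype, commutator_def, Subgroup.commutator_le]
      intro p _ q _
      obtain ⟨d, hd, z, hz, rfl⟩ := key p
      obtain ⟨e, he, v, hv, rfl⟩ := key q
      have cz := Subgroup.mem_center_iff.1 hz
      have cv := Subgroup.mem_center_iff.1 hv
      have : ⁅d * z, e * v⁆ = ⁅d, e⁆ := by
        rw [commutatorElement_def, commutatorElement_def]
        calc d * z * (e * v) * (d * z)⁻¹ * (e * v)⁻¹ = d * (z * (e * v)) * z⁻¹ * d⁻¹ * v⁻¹ * e⁻¹ := by group
          _ = d * ((e * v) * z) * z⁻¹ * d⁻¹ * v⁻¹ * e⁻¹ := by rw [cz]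
          _ = d * e * (v * d⁻¹) * v⁻¹ * e⁻¹ := by group
          _ = d * e * (d⁻¹ * v) * v⁻¹ * e⁻¹ := by rw [cv]
          _ = d * e * d⁻¹ * e⁻¹ := by group
      rw [this]
      exact Subgroup.commutator_mem_commutator (by rwa [← commutator_def]) (by rwa [← commutator_def])
    obtain ⟨b, hb, hba⟩ := hle a.2
    rwa [← (Subtype.ext hba : b = a)]

theorem minusOne_ker : ∃ a : proj.ker, a ≠ 1 := by
  have hc : minusOne ∈ Subgroup.center fourRu := ker_eq_center ▸ minusOne_line
  refine ⟨⟨⟨minusOne, minusOne_mem_commutator⟩, (QuotientGroup.eq_one_iff _).2 hc⟩, fun e => minusOne_ne ?_⟩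
  exact congrArg (fun a : proj.ker => (a.1 : fourRu)) e

theorem finite_fourRu : Finite fourRu := by
  have : Finite (Subgroup.center fourRu) := Nat.finite_of_card_ne_zero (by rw [card_center]; decide)
  have : Finite grp := Nat.finite_of_card_ne_zero (by rw [card_grp]; decide)
  have : Finite Ru := Finite.of_equiv _ ruEquiv.symm.toEquiv
  exact Finite.of_subgroup_quotient (Subgroup.center fourRu)

end Cfsg.Lib.RuMult
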