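import Cfsg.Agent.Lib.RuMult.Upper
import Cfsg.Agent.Lib.RuMult.Lower

/-!
# The multiplier of the Rudvalis group is cyclic of order two
-/

set_option autoImplicit false

namespace Cfsg.Lib.RuMult

open Cfsg.Spor Cfsg.Lib.RuMin Cfsg.Lib.Ru4060

/-- Every stem extension of the Rudvalis group has kernel an image of `ℤ/2`. -/
theorem stem_ker_ru {Γ : Type} [Group Γ] (σ : Γ →* Ru) (hσ : Cfsg.IsStemExtension σ) :
    ∃ p : Multiplicative (ZMod 2) →* σ.ker, Function.Surjective p := by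
  have hk : (ruEquiv.toMonoidHom.comp σ).ker = σ.ker := by
    ext a
    simp [MonoidHom.mem_ker]
  obtain ⟨hs, hc, hd⟩ := hσ
  obtain ⟨p, hp⟩ := stem_ker (ruEquiv.toMonoidHom.comp σ)
    ⟨ruEquiv.surjective.comp hs, hk ▸ hc, hk ▸ hd⟩
  exact ⟨(MulEquiv.subgroupCongr hk).toMonoidHom.comp p, (MulEquiv.subgroupCongr hk).surjective.comp hp⟩

/-- The Schur multiplier of the Rudvalis group is cyclic of order two. -/
theorem multiplier : Cfsg.HasCyclicSchurMultiplier Ru 2 := by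
  have := finite_fourRu
  refine ⟨⟨commutator fourRu, inferInstance, inferInstance, proj, proj_stem, ?_⟩,
    fun Γ _ _ σ hσ => stem_ker_ru σ hσ⟩
  obtain ⟨p, hp⟩ := stem_ker_ru proj proj_stem
  obtain ⟨a, ha⟩ := minusOne_ker
  have h2 : Nat.card (Multiplicative (ZMod 2)) = 2 := (Nat.card_congr Multiplicative.toAdd).trans (Nat.card_zmod 2)
  have hdvd : Nat.card proj.ker ∣ 2 := h2 ▸ Subgroup.card_dvd_of_surjective p hp
  have hne : Nat.card proj.ker ≠ 1 := fun h1 =>
    ha (@Subsingleton.elim _ (Nat.card_eq_one_iff_unique.1 h1).1 a 1)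
  have hcard : Nat.card proj.ker = 2 := (Nat.prime_two.eq_one_or_self_of_dvd _ hdvd).resolve_left hne
  have : Fact (Nat.Prime 2) := ⟨Nat.prime_two⟩
  exact ⟨mulEquivOfPrimeCardEq hcard h2⟩

end Cfsg.Lib.RuMult
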