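import Cfsg.Agent.Lib.RuMult.Data
import Cfsg.Agent.Lib.Ru4060.Out
import Cfsg.Agent.Lib.CosetEnum.WordPres
import Cfsg.Agent.Lib.CosetEnum.Order
import Cfsg.Agent.Lib.CosetEnum.RuStemL.Data
import Cfsg.Agent.Lib.CosetEnum.RuStemT.Data
import Cfsg.Agent.Lib.CosetEnum.RuStemG.Data
import Cfsg.Agent.Lib.CosetEnum.RuStepL.Valid
import Cfsg.Agent.Lib.CosetEnum.RuStepT.Valid
import Cfsg.Agent.Lib.CosetEnum.RuStepG.Valid

/-!
# A presentation of the Rudvalis group on six involutions
-/

set_option autoImplicit false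
set_option maxRecDepth 100000

namespace Cfsg.Lib.RuMult

open Cfsg.Lib.CosetEnum Cfsg.Lib.Ru4060

/-- The six involutions. -/
noncomputable def x (g : ℕ) : grp := OutRu.val (genW.getD g [])

/-- Elements of the group of the words with all relators killed have bounded span on three letters. -/
theorem card_three {M : Type*} [Group M] {y : ℕ → M} (hy : ∀ g, y g * y g = 1)
    (hrel : ∀ r ∈ RuStemL.canon, wordVal y r = 1) :
    Finite (Subgroup.closure (y '' {g | g ∈ RuStepL.step.S})) ∧
      Nat.card (Subgroup.closure (y '' {g | g ∈ RuStepL.step.S})) ≤ 11232 := by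
  have v : RuStepL.step.Valid RuStemL.canon := RuStepL.step_valid (by decide +kernel)
  have hcyc : Finite (Subgroup.closure ({y 0} : Set M)) ∧
      Nat.card (Subgroup.closure ({y 0} : Set M)) ≤ 2 := by
    have h2 : y 0 ^ 2 = 1 := by rw [pow_two, hy]
    have hfin : IsOfFinOrder (y 0) := isOfFinOrder_iff_pow_eq_one.2 ⟨2, by norm_num, h2⟩
    rw [← Subgroup.zpowers_eq_closure]
    have hc : Nat.card (Subgroup.zpowers (y 0)) = orderOf (y 0) := Nat.card_zpowers _
    exact ⟨Nat.finite_of_card_ne_zero (by rw [hc]; exact hfin.orderOf_pos.ne'),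
      hc ▸ orderOf_le_of_pow_eq_one (by norm_num) h2⟩
  obtain ⟨h1, h2⟩ := v.card_le hy hrel (K := Subgroup.closure ({y 0} : Set M)) (by
    intro u hu
    rw [show RuStepL.step.U = [[0]] from rfl, List.mem_singleton] at hu
    rw [hu]
    exact Subgroup.subset_closure (by simp [wordVal, gen, eps])) hcyc.1 hcyc.2
  exact ⟨h1, h2.trans (by decide +kernel)⟩

/-- The subgroup on five letters. -/
theorem card_five {M : Type*} [Group M] {y : ℕ → M} (hy : ∀ g, y g * y g = 1)
    (hrel : ∀ r ∈ RuStemT.canon, wordVal y r = 1) :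
    Finite (Subgroup.closure (y '' {g | g ∈ RuStepT.step.S})) ∧
      Nat.card (Subgroup.closure (y '' {g | g ∈ RuStepT.step.S})) ≤ 17971200 := by
  have v : RuStepT.step.Valid RuStemT.canon := RuStepT.step_valid (by decide +kernel)
  have hsub : ∀ r ∈ RuStemL.canon, r ∈ RuStemT.canon := by decide +kernel
  obtain ⟨c1, c2⟩ := card_three hy fun r hr => hrel r (hsub r hr)
  obtain ⟨h1, h2⟩ := v.card_le hy hrel (inLetters_mem y (S := RuStepL.step.S) (by decide +kernel)) c1 c2
  exact ⟨h1, h2.trans (by decide +kernel)⟩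

/-- All six letters. -/
theorem card_six {M : Type*} [Group M] {y : ℕ → M} (hy : ∀ g, y g * y g = 1)
    (hrel : ∀ r ∈ RuStemG.canon, wordVal y r = 1) :
    Finite (Subgroup.closure (y '' {g | g ∈ RuStepG.step.S})) ∧
      Nat.card (Subgroup.closure (y '' {g | g ∈ RuStepG.step.S})) ≤ 145926144000 := by
  have v : RuStepG.step.Valid RuStemG.canon := RuStepG.step_valid (by decide +kernel)
  have hsub : ∀ r ∈ RuStemT.canon, r ∈ RuStemG.canon := by decide +kernel
  obtain ⟨c1, c2⟩ := card_five hy fun r hr => hrel r (hsub r hr)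
  obtain ⟨h1, h2⟩ := v.card_le hy hrel (inLetters_mem y (S := RuStepT.step.S) (by decide +kernel)) c1 c2
  exact ⟨h1, h2.trans (by decide +kernel)⟩

theorem wordVal_val : ∀ {r : List ℕ}, (∀ g ∈ r, g ≠ eps) →
    wordVal x r = OutRu.val (r.flatMap fun g => genW.getD g [])
  | [], _ => rfl
  | g :: r, h => by
    rw [wordVal, wordVal_val fun a ha => h a (by simp [ha]), gen, if_neg (h g (by simp)), List.flatMap_cons,
      OutRu.val_append]
    rfl

theorem squares_ok : ((List.range 7).all fun g => OutRu.sameW (genW.getD g [] ++ genW.getD g []) []) = true := by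
  decide +kernel

theorem x_mul_self (g : ℕ) : x g * x g = 1 := by
  rcases Nat.lt_or_ge g 7 with hg | hg
  · have h := OutRu.val_of_sameW (List.all_eq_true.1 squares_ok g (List.mem_range.2 hg))
    rw [OutRu.val_append] at h
    exact h
  · rw [x, List.getD_eq_default _ _ (show genW.length ≤ g from (show genW.length ≤ 7 by decide).trans hg)]
    exact one_mul 1

theorem rels_ok : (RuStemG.canon.all fun r => OutRu.sameW (r.flatMap fun g => genW.getD g []) []) = true := by
  decide +kernel

theorem canon_lt : ∀ r ∈ RuStemG.canon, ∀ g ∈ r, g < 6 := by decide +kernel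

theorem wordVal_x : ∀ r ∈ RuStemG.canon, wordVal x r = 1 := fun r hr => by
  rw [wordVal_val fun g hg => by have := canon_lt r hr g hg; unfold eps; omega,
    OutRu.val_of_sameW (List.all_eq_true.1 rels_ok r hr)]
  rfl

theorem back_ok : ((List.range 3).all fun g =>
    (backW.getD g []).all (fun a => Nat.blt a 6) &&
      OutRu.sameW ((backW.getD g []).flatMap fun a => genW.getD a []) [g]) = true := by
  decide +kernel

theorem closure_x : Subgroup.closure (x '' {g | g < 6}) = ⊤ := by
  rw [eq_top_iff]
  rintro ⟨a, ha⟩ -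
  have key : ∀ g < 3, OutRu.gg g ∈ Subgroup.closure (x '' {g | g < 6}) := by
    intro g hg
    have h := List.all_eq_true.1 back_ok g (List.mem_range.2 hg)
    rw [Bool.and_eq_true, List.all_eq_true] at h
    have hlt : ∀ a ∈ backW.getD g [], a < 6 := fun a ha => by simpa [Nat.blt_eq] using h.1 a ha
    have hm : wordVal x (backW.getD g []) ∈ Subgroup.closure (x '' {g | g ∈ List.range 6}) :=
      wordVal_mem x fun a ha => ⟨List.mem_range.2 (hlt a ha), by have := hlt a ha; unfold eps; omega⟩
    rw [wordVal_val (fun a ha => by have := hlt a ha; unfold eps; omega), OutRu.val_of_sameW h.2] at hm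
    simpa [OutRu.val, wordVal, gen, eps, Nat.ne_of_lt (show g < 31 by omega)] using hm
  refine Subgroup.closure_induction (p := fun b hb => (⟨b, hb⟩ : grp) ∈ Subgroup.closure (x '' {g | g < 6}))
    ?_ ?_ ?_ ?_ ha
  · rintro b ⟨g, hg, rfl⟩
    have := key g hg
    rwa [OutRu.gg, dif_pos (show g < 3 from hg)] at this
  · exact one_mem _
  · intro b c hb hc h1 h2
    exact mul_mem h1 h2
  · intro b hb h1
    exact inv_mem h1

/-- Involutions satisfying the relators give a homomorphism of the group. -/
theorem exists_hom {M : Type*} [Group M] (y : ℕ → M) (hy : ∀ g, y g * y g = 1)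
    (h : ∀ r ∈ RuStemG.canon, wordVal y r = 1) : ∃ s : grp →* M, ∀ g < 6, s (x g) = y g := by
  have hlt : (RuStemG.canon.all fun r => r.all fun g => Nat.blt g 6) = true := by decide +kernel
  obtain ⟨φ, hφ⟩ := WordPres.exists_hom (by decide) hlt x wordVal_x
  obtain ⟨ψ, hψ⟩ := WordPres.exists_hom (by decide) hlt y h
  have hs : (fun g => g < 6) = fun g => g ∈ RuStepG.step.S := funext fun g => by
    rw [show RuStepG.step.S = List.range 6 by decide +kernel, List.mem_range]
  have hP := card_six (WordPres.gens_mul_self (by decide) (by decide +kernel))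
    (WordPres.wordVal_gens (k := 6) (R := RuStemG.canon))
  rw [show {g | g ∈ RuStepG.step.S} = {g | g < 6} from congrArg setOf hs.symm, WordPres.closure_gens] at hP
  have hfin : Finite (WordPres.Grp 6 RuStemG.canon) := by
    have := hP.1
    exact Finite.of_equiv _ Subgroup.topEquiv.toEquiv
  have hcard : Nat.card (WordPres.Grp 6 RuStemG.canon) ≤ Nat.card grp := by
    rw [card_grp, ← Subgroup.card_top]
    exact hP.2
  have hsurj : Function.Surjective φ := by
    rw [← MonoidHom.range_eq_top, eq_top_iff, ← closure_x, Subgroup.closure_le]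
    rintro _ ⟨g, hg, rfl⟩
    exact ⟨_, hφ g hg⟩
  let e := MulEquiv.ofBijective φ (hsurj.bijective_of_nat_card_le hcard)
  refine ⟨ψ.comp e.symm.toMonoidHom, fun g hg => ?_⟩
  show ψ (e.symm (x g)) = _
  rw [← hφ g hg, show φ (WordPres.gens 6 RuStemG.canon g) = e (WordPres.gens 6 RuStemG.canon g) from rfl,
    e.symm_apply_apply, hψ g hg]

end Cfsg.Lib.RuMult
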