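import Cfsg.Agent.Lib.RuMult.Pres
import Cfsg.Agent.Lib.CosetEnum.Stem.StageTwo
import Cfsg.Agent.Lib.CosetEnum.RuStemL.Checks
import Cfsg.Agent.Lib.CosetEnum.RuStemT.Checks
import Cfsg.Agent.Lib.CosetEnum.RuStemG.Checks
import Cfsg.Prelude.Def_KGroupFacts

/-!
# The kernel of a stem extension of the Rudvalis group has order at most two
-/

set_option autoImplicit false
set_option maxRecDepth 100000

namespace Cfsg.Lib.RuMult

open Cfsg.Lib.CosetEnum Cfsg.Lib.Ru4060

/-- The unknown relators on three letters. -/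
def cunL : List ℕ := [3, 4, 5, 6, 7]

/-- The unknown relators on five letters. -/
def cunT : List ℕ := [5, 7, 9, 10, 11, 12, 14, 17, 18]

/-- The unknown relators on six letters. -/
def cunG : List ℕ := [10, 14, 17, 19, 20, 25, 26, 27, 28, 29]

theorem shapeL : Stem.shapeOK RuStemL.canon.length cunL RuStemL.canonVals = true := by decide +kernel
theorem shapeT : Stem.shapeOK RuStemT.canon.length cunT RuStemT.canonVals = true := by decide +kernel
theorem shapeG : Stem.shapeOK RuStemG.canon.length cunG RuStemG.canonVals = true := by decide +kernel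

theorem expoL : Stem.expoOK RuStemL.certA.R RuStemL.certA.RV (RuStemL.certA.eqs.map Prod.snd)
    cunL.length RuStemL.expo RuStemL.expoCombs = true := by decide +kernel
theorem expoT : Stem.expoOK RuStemT.certA.R RuStemT.certA.RV (RuStemT.certA.eqs.map Prod.snd)
    cunT.length RuStemT.expo RuStemT.expoCombs = true := by decide +kernel
theorem expoG : Stem.expoOK RuStemG.certA.R RuStemG.certA.RV (RuStemG.certA.eqs.map Prod.snd)
    cunG.length RuStemG.expo RuStemG.expoCombs = true := by decide +kernel

theorem twistL : Stem.twistTwoOK RuStemL.certB.R RuStemL.certB.RV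
    (RuStemL.certA.eqs.map Prod.snd ++ RuStemL.certB.eqs.map Prod.snd ++
      Stem.units cunL.length RuStemL.expo) RuStemL.canon RuStemL.canonVals RuStemL.lam RuStemL.omega
    RuStemL.mult RuStemL.twistCombs RuStemL.lamCombs RuStemL.omegaComb = true := by decide +kernel
theorem twistT : Stem.twistTwoOK RuStemT.certB.R RuStemT.certB.RV
    (RuStemT.certA.eqs.map Prod.snd ++ RuStemT.certB.eqs.map Prod.snd ++
      Stem.units cunT.length RuStemT.expo) RuStemT.canon RuStemT.canonVals RuStemT.lam RuStemT.omega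
    RuStemT.mult RuStemT.twistCombs RuStemT.lamCombs RuStemT.omegaComb = true := by decide +kernel
theorem twistG : Stem.twistTwoOK RuStemG.certB.R RuStemG.certB.RV
    (RuStemG.certA.eqs.map Prod.snd ++ RuStemG.certB.eqs.map Prod.snd ++
      Stem.units cunG.length RuStemG.expo) RuStemG.canon RuStemG.canonVals RuStemG.lam RuStemG.omega
    RuStemG.mult RuStemG.twistCombs RuStemG.lamCombs RuStemG.omegaComb = true := by decide +kernel

theorem map_word {M G : Type*} [Group M] [Group G] (f : M →* G) {y : ℕ → M} {z : ℕ → G}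
    (h : ∀ g, f (y g) = z g) (w : List ℕ) : f (wordVal y w) = wordVal z w := by
  rw [map_wordVal, funext h]

theorem rep_lower {S : List ℕ} {n : ℕ} (hS : S = List.range n) {M : Type*} [Group M] (y : ℕ → M) :
    y '' {g | g ∈ S} = y '' {g | g < n} := by
  subst hS
  simp only [List.mem_range]

section Bound

variable {Q : Type} [Group Q] {π : Q →* grp}

/-- A lifted subgroup as small as its image meets the kernel trivially. -/
theorem inj_of_card {K : Subgroup Q} (hfin : Finite K) {m : ℕ} (hle : Nat.card K ≤ m)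
    (hge : m ≤ Nat.card (K.map π)) : ∀ a ∈ K, π a = 1 → a = 1 := by
  have hbij := (π.subgroupMap_surjective K).bijective_of_nat_card_le (hle.trans hge)
  intro a ha h1
  have : (⟨a, ha⟩ : K) = 1 := hbij.1 (Subtype.ext (by simpa using h1))
  exact congrArg Subtype.val this

theorem map_closure_lifts {y : ℕ → Q} (hxy : ∀ g, π (y g) = x g) (S : Set ℕ) :
    (Subgroup.closure (y '' S)).map π = Subgroup.closure (x '' S) := by
  rw [MonoidHom.map_closure, ← Set.image_comp, show ⇑π ∘ y = x from funext hxy]

theorem image_card_three : 11232 ≤ Nat.card (Subgroup.closure (x '' {g | g ∈ RuStepL.step.S})) ∧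
    17971200 ≤ Nat.card (Subgroup.closure (x '' {g | g ∈ RuStepT.step.S})) := by
  have hx := x_mul_self
  have hsubT : ∀ r ∈ RuStemT.canon, r ∈ RuStemG.canon := by decide +kernel
  have hsubL : ∀ r ∈ RuStemL.canon, r ∈ RuStemT.canon := by decide +kernel
  have hrelT : ∀ r ∈ RuStemT.canon, wordVal x r = 1 := fun r hr => wordVal_x r (hsubT r hr)
  have vT : RuStepT.step.Valid RuStemT.canon := RuStepT.step_valid (by decide +kernel)
  have vG : RuStepG.step.Valid RuStemG.canon := RuStepG.step_valid (by decide +kernel)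
  obtain ⟨fL, cL⟩ := card_three hx fun r hr => hrelT r (hsubL r hr)
  obtain ⟨fT, cT⟩ := vT.card_le hx hrelT (K := Subgroup.closure (x '' {g | g ∈ RuStepL.step.S}))
    (inLetters_mem x (S := RuStepL.step.S) (by decide +kernel)) fL le_rfl
  obtain ⟨-, cG⟩ := vG.card_le hx wordVal_x (K := Subgroup.closure (x '' {g | g ∈ RuStepT.step.S}))
    (inLetters_mem x (S := RuStepT.step.S) (by decide +kernel)) fT le_rfl
  rw [rep_lower (show RuStepG.step.S = List.range 6 by decide +kernel) x, closure_x, Subgroup.card_top,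
    card_grp, show RuStepG.step.n = 8120 by decide +kernel] at cG
  rw [show RuStepT.step.n = 1600 by decide +kernel] at cT
  omega

variable (hπ : π.ker ≤ Subgroup.center Q)

include hπ in
/-- The lifts can be chosen so that the relators on three letters hold. -/
theorem exists_lifts_three {y : ℕ → Q} (hy : ∀ g, y g * y g = 1) (hxy : ∀ g, π (y g) = x g) :
    ∃ y' : ℕ → Q, (∀ g, y' g * y' g = 1) ∧ (∀ g, π (y' g) = x g) ∧
      ∀ r ∈ RuStemL.canon, wordVal y' r = 1 := by
  have hK : ∀ a ∈ Subgroup.closure ({y 0} : Set Q), π a = 1 → a = 1 := by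
    intro a ha h1
    rw [← Subgroup.zpowers_eq_closure] at ha
    obtain ⟨k, rfl⟩ := Subgroup.mem_zpowers_iff.1 ha
    rcases Int.even_or_odd k with ⟨j, rfl⟩ | ⟨j, rfl⟩
    · rw [zpow_add, ← (Commute.refl (y 0)).mul_zpow, hy, one_zpow]
    · exfalso
      rw [zpow_add, zpow_mul, zpow_two, hy, one_zpow, one_mul, zpow_one, hxy] at h1
      have hne : OutRu.sameW (genW.getD 0 []) [] = false := by decide +kernel
      refine absurd ?_ (Bool.eq_false_iff.1 hne)
      have hv := congrArg (fun e : grp => (e : Equiv.Perm (Fin 4060))) h1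
      simp only [x, OneMemClass.coe_one] at hv
      have hl : OutRu.letters (genW.getD 0 []) = true := by decide +kernel
      rw [OutRu.sameW, hl, show OutRu.letters [] = true from rfl, Bool.true_and, Bool.true_and, List.all_eq_true]
      intro i hi
      rw [List.mem_range] at hi
      have hp := prm_walk (OutRu.letters_lt hl) (bpt i)
      rw [← OutRu.val_coe (OutRu.letters_lt hl), hv] at hp
      rw [Nat.beq_eq]
      exact hp.symm
  have hrel : ∀ i < RuStemL.canon.length, π (wordVal y (RuStemL.canon.getD i [])) = 1 := by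
    intro i hi
    rw [map_word π hxy, List.getD_eq_getElem _ _ hi]
    exact wordVal_x _ ((show ∀ r ∈ RuStemL.canon, r ∈ RuStemG.canon by decide +kernel) _ (List.getElem_mem hi))
  have hone : ∀ i < RuStemL.canon.length, cunL.count i = 0 → wordVal y (RuStemL.canon.getD i []) = 1 := by
    intro i hi h0
    obtain ⟨g, hg, e⟩ := (show ∀ i < RuStemL.canon.length, cunL.count i = 0 →
        ∃ g, g < 3 ∧ RuStemL.canon.getD i [] = [g, g] by decide +kernel) i hi h0
    rw [e]
    simp [wordVal, gen, eps, Nat.ne_of_lt (show g < 31 by omega), hy]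
  have hU : ∀ r ∈ ([[0]] : List (List ℕ)), wordVal y r ∈ Subgroup.closure ({y 0} : Set Q) := by
    intro r hr
    rw [List.mem_singleton] at hr
    rw [hr]
    exact Subgroup.subset_closure (by simp [wordVal, gen, eps])
  obtain ⟨y', w, h1, h2, -, -, h3, h4⟩ := Stem.stageTwo hπ hy hK hrel shapeL hone
    RuStemL.validA RuStemL.validB rfl rfl RuStemL.srcA_ok RuStemL.srcB_ok hU hU expoL twistL
  refine ⟨y', h1, fun g => (h2 g).trans (hxy g), fun r hr => ?_⟩
  obtain ⟨i, hi, rfl⟩ := List.getElem_of_mem hr
  have := h4 i hi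
  rwa [h3 (by decide +kernel), Subgroup.zpowers_one_eq_bot, Subgroup.mem_bot,
    List.getD_eq_getElem _ _ hi] at this

include hπ in
/-- The lifts can be chosen so that the relators on five letters hold. -/
theorem exists_lifts_five {y : ℕ → Q} (hy : ∀ g, y g * y g = 1) (hxy : ∀ g, π (y g) = x g) :
    ∃ y' : ℕ → Q, (∀ g, y' g * y' g = 1) ∧ (∀ g, π (y' g) = x g) ∧
      ∀ r ∈ RuStemT.canon, wordVal y' r = 1 := by
  obtain ⟨u, hu, hxu, hL⟩ := exists_lifts_three hπ hy hxy
  let K := Subgroup.closure (u '' {g | g ∈ RuStepL.step.S})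
  obtain ⟨hfin, hle⟩ := card_three hu hL
  have hK : ∀ a ∈ K, π a = 1 → a = 1 :=
    inj_of_card hfin hle (by rw [map_closure_lifts hxu]; exact image_card_three.1)
  have hrel : ∀ i < RuStemT.canon.length, π (wordVal u (RuStemT.canon.getD i [])) = 1 := by
    intro i hi
    rw [map_word π hxu, List.getD_eq_getElem _ _ hi]
    exact wordVal_x _ ((show ∀ r ∈ RuStemT.canon, r ∈ RuStemG.canon by decide +kernel) _ (List.getElem_mem hi))
  have hone : ∀ i < RuStemT.canon.length, cunT.count i = 0 → wordVal u (RuStemT.canon.getD i []) = 1 := by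
    intro i hi h0
    rcases (show ∀ i < RuStemT.canon.length, cunT.count i = 0 →
        RuStemT.canon.getD i [] ∈ RuStemL.canon ∨ RuStemT.canon.getD i [] = [3, 3] ∨
          RuStemT.canon.getD i [] = [4, 4] by decide +kernel) i hi h0 with e | e | e
    · exact hL _ e
    · rw [e]; simp [wordVal, gen, eps, hu]
    · rw [e]; simp [wordVal, gen, eps, hu]
  have hU : ∀ r ∈ ([[0], [1], [2]] : List (List ℕ)), wordVal u r ∈ K := inLetters_mem u (by decide +kernel)
  obtain ⟨y', w, h1, h2, -, -, h3, h4⟩ := Stem.stageTwo hπ hu hK hrel shapeT hone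
    RuStemT.validA RuStemT.validB rfl rfl RuStemT.srcA_ok RuStemT.srcB_ok hU hU expoT twistT
  refine ⟨y', h1, fun g => (h2 g).trans (hxu g), fun r hr => ?_⟩
  obtain ⟨i, hi, rfl⟩ := List.getElem_of_mem hr
  have := h4 i hi
  rwa [h3 (by decide +kernel), Subgroup.zpowers_one_eq_bot, Subgroup.mem_bot,
    List.getD_eq_getElem _ _ hi] at this

include hπ in
/-- The kernel meets the derived subgroup in a group of order at most two. -/
theorem exists_kernel_gen {y : ℕ → Q} (hy : ∀ g, y g * y g = 1) (hxy : ∀ g, π (y g) = x g) :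
    ∃ w : Q, w ^ 2 = 1 ∧ π.ker ⊓ commutator Q ≤ Subgroup.zpowers w := by
  obtain ⟨u, hu, hxu, hT⟩ := exists_lifts_five hπ hy hxy
  let K := Subgroup.closure (u '' {g | g ∈ RuStepT.step.S})
  obtain ⟨hfin, hle⟩ := card_five hu hT
  have hK : ∀ a ∈ K, π a = 1 → a = 1 :=
    inj_of_card hfin hle (by rw [map_closure_lifts hxu]; exact image_card_three.2)
  have hrel : ∀ i < RuStemG.canon.length, π (wordVal u (RuStemG.canon.getD i [])) = 1 := by
    intro i hi
    rw [map_word π hxu, List.getD_eq_getElem _ _ hi]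
    exact wordVal_x _ (List.getElem_mem hi)
  have hone : ∀ i < RuStemG.canon.length, cunG.count i = 0 → wordVal u (RuStemG.canon.getD i []) = 1 := by
    intro i hi h0
    rcases (show ∀ i < RuStemG.canon.length, cunG.count i = 0 →
        RuStemG.canon.getD i [] ∈ RuStemT.canon ∨ RuStemG.canon.getD i [] = [5, 5] by decide +kernel)
      i hi h0 with e | e
    · exact hT _ e
    · rw [e]; simp [wordVal, gen, eps, hu]
  have hU : ∀ r ∈ ([[0], [1], [2], [3], [4]] : List (List ℕ)), wordVal u r ∈ K :=
    inLetters_mem u (by decide +kernel)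
  obtain ⟨y', w, h1, h2, hw, hw2, -, h4⟩ := Stem.stageTwo hπ hu hK hrel shapeG hone
    RuStemG.validA RuStemG.validB rfl rfl RuStemG.srcA_ok RuStemG.srcB_ok hU hU expoG twistG
  refine ⟨w, hw2, Stem.ker_commutator_le_of_pres hπ (R := RuStemG.canon) closure_x h1
    (fun g _ => (h2 g).trans (hxu g)) (fun M _ z hz hr => exists_hom z hz hr)
    (Subgroup.zpowers_le.2 hw) fun r hr => ?_⟩
  obtain ⟨i, hi, rfl⟩ := List.getElem_of_mem hr
  simpa only [List.getD_eq_getElem _ _ hi] using h4 i hi

end Bound

/-- A subgroup embedded in a cyclic group of order dividing `n` is an image of it. -/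
theorem exists_surjective_of_zpowers {n : ℕ} {E Q : Type*} [Group E] [Group Q] (H : Subgroup E) (ι : E →* Q)
    (hι : Function.Injective ι) {g : Q} (hg : g ^ n = 1) (hn : 0 < n)
    (hH : ∀ e ∈ H, ι e ∈ Subgroup.zpowers g) :
    ∃ p : Multiplicative (ZMod n) →* H, Function.Surjective p := by
  have hfin : IsOfFinOrder g := isOfFinOrder_iff_pow_eq_one.2 ⟨n, hn, hg⟩
  have : Finite (Subgroup.zpowers g) :=
    Nat.finite_of_card_ne_zero (by rw [Nat.card_zpowers]; exact hfin.orderOf_pos.ne')
  let f : H →* Subgroup.zpowers g := (ι.comp H.subtype).codRestrict _ fun e => hH e.1 e.2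
  have hf : Function.Injective f := fun a b h => Subtype.ext (hι (congrArg Subtype.val h))
  have hcyc : IsCyclic H := isCyclic_of_injective f hf
  have hdvd : Nat.card H ∣ n :=
    (Subgroup.card_dvd_of_injective f hf).trans (by rw [Nat.card_zpowers]; exact orderOf_dvd_of_pow_eq_one hg)
  let q : ZMod n →+* ZMod (Nat.card H) := ZMod.castHom hdvd _
  refine ⟨(zmodCyclicMulEquiv hcyc).toMonoidHom.comp (AddMonoidHom.toMultiplicative q.toAddMonoidHom),
    (zmodCyclicMulEquiv hcyc).surjective.comp ?_⟩
  intro z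
  obtain ⟨v, hv⟩ := ZMod.ringHom_surjective q (Multiplicative.toAdd z)
  exact ⟨Multiplicative.ofAdd v, by
    show Multiplicative.ofAdd (q v) = z
    rw [hv]; rfl⟩

/-- Every stem extension of the group on 4060 points has kernel an image of `ℤ/2`. -/
theorem stem_ker {Γ : Type} [Group Γ] (σ : Γ →* grp) (hσ : Cfsg.IsStemExtension σ) :
    ∃ p : Multiplicative (ZMod 2) →* σ.ker, Function.Surjective p := by
  obtain ⟨hsurj, hker, hcomm⟩ := hσ
  obtain ⟨Q, _, π, ι, y₀, hπ, hι, hcomp, hy₀, hxy₀⟩ :=
    Stem.exists_involution_lifts (k := 6) hsurj hker x_mul_self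
  let y : ℕ → Q := fun g => if g < 6 then y₀ g else 1
  have hy : ∀ g, y g * y g = 1 := fun g => by
    dsimp only [y]; split
    · exact hy₀ g
    · exact one_mul 1
  have hxy : ∀ g, π (y g) = x g := fun g => by
    dsimp only [y]; split
    · next h => exact hxy₀ g h
    · next h =>
      rw [map_one, x, List.getD_eq_default _ _ ((show genW.length ≤ 6 by decide).trans (Nat.not_lt.1 h))]
      rfl
  obtain ⟨w, hw, hle⟩ := exists_kernel_gen hπ hy hxy
  refine exists_surjective_of_zpowers σ.ker ι hι hw (by norm_num) fun e he => hle ⟨?_, ?_⟩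
  · show π (ι e) = 1
    rw [← MonoidHom.comp_apply, hcomp]
    exact he
  · have : (commutator Γ).map ι ≤ commutator Q := by
      rw [commutator_def, Subgroup.map_commutator, commutator_def]
      exact Subgroup.commutator_mono le_top le_top
    exact this ⟨e, hcomm he, rfl⟩

end Cfsg.Lib.RuMult
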